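import Groth.Agent.PnEmb.Segre
import Groth.Prelude.Def_LCI2

/-!
# The Segre embedding over a base, and tensor products of very ample modules
-/

set_option autoImplicit false
set_option linter.unusedSectionVars false
set_option backward.isDefEq.respectTransparency.types false
set_option maxHeartbeats 1000000

universe u

open AlgebraicGeometry CategoryTheory CategoryTheory.Limits TopologicalSpace Opposite
open Groth.Agent.Coherent Groth.Agent.PicLib Groth.Agent.AmpleLib

namespace Groth.Agent.PnEmb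

theorem exists_pullback_prod_iso {A B S Z : Scheme.{u}} (a : A ⟶ Z) (b : B ⟶ Z) (c : S ⟶ Z) :
    ∃ e : pullback (pullback.snd a c) (pullback.snd b c) ≅ pullback (pullback.fst a b ≫ a) c,
      e.hom ≫ pullback.snd _ _ = pullback.fst _ _ ≫ pullback.snd a c := by
  have hc : pullback.fst (pullback.snd a c) (pullback.snd b c) ≫ pullback.snd a c =
      pullback.snd _ _ ≫ pullback.snd b c := pullback.condition
  have h1 : pullback.fst a c ≫ a = pullback.snd a c ≫ c := pullback.condition
  have h2 : pullback.fst b c ≫ b = pullback.snd b c ≫ c := pullback.condition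
  have h3 : pullback.fst a b ≫ a = pullback.snd a b ≫ b := pullback.condition
  have h4 : pullback.fst (pullback.fst a b ≫ a) c ≫ pullback.fst a b ≫ a =
      pullback.snd (pullback.fst a b ≫ a) c ≫ c := pullback.condition
  refine ⟨⟨pullback.lift (pullback.lift (pullback.fst _ _ ≫ pullback.fst a c) (pullback.snd _ _ ≫ pullback.fst b c)
      (by rw [Category.assoc, Category.assoc, h1, h2, ← Category.assoc, hc, Category.assoc]))
      (pullback.fst _ _ ≫ pullback.snd a c)
      (by rw [← Category.assoc, pullback.lift_fst, Category.assoc, Category.assoc, h1]),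
    pullback.lift
      (pullback.lift (pullback.fst _ _ ≫ pullback.fst a b) (pullback.snd _ _) (by rw [Category.assoc, h4]))
      (pullback.lift (pullback.fst _ _ ≫ pullback.snd a b) (pullback.snd _ _) (by rw [Category.assoc, ← h3, h4]))
      (by rw [pullback.lift_snd, pullback.lift_snd]), ?_, ?_⟩, pullback.lift_snd _ _ _⟩
  · refine pullback.hom_ext (pullback.hom_ext ?_ ?_) (pullback.hom_ext ?_ ?_) <;> simp only [Category.assoc, Category.id_comp, pullback.lift_fst, pullback.lift_snd, pullback.lift_fst_assoc, pullback.lift_snd_assoc]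
    exact hc
  · refine pullback.hom_ext (pullback.hom_ext ?_ ?_) ?_ <;> simp only [Category.assoc, Category.id_comp, pullback.lift_fst, pullback.lift_snd, pullback.lift_fst_assoc, pullback.lift_snd_assoc]

variable (S : Scheme.{u}) (n m : ℕ)

/-- The product of two projective spaces, pulled back to `S`. -/
noncomputable abbrev PPover : Scheme.{u} :=
  pullback (pullback.fst (CohB1.ProjSpace.toSpec n (ULift.{u} ℤ)) (CohB1.ProjSpace.toSpec m (ULift.{u} ℤ)) ≫
    CohB1.ProjSpace.toSpec n (ULift.{u} ℤ)) (specULiftZIsTerminal.from S)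

theorem exists_segre_over : ∃ (r : PP.{u} n m ⟶ PZ.{u} (n * m + n + m))
    (Φ : PPover S n m ⟶ pullback (CohB1.ProjSpace.toSpec (n * m + n + m) (ULift.{u} ℤ)) (specULiftZIsTerminal.from S)),
    IsClosedImmersion Φ ∧ Φ ≫ pullback.fst _ _ = pullback.fst _ _ ≫ r ∧ Φ ≫ pullback.snd _ _ = pullback.snd _ _ ∧
      Nonempty ((Scheme.Modules.pullback r).obj (O1 (n * m + n + m)) ≅ O11 n m) := by
  obtain ⟨r, hr, hrs, e⟩ := exists_segre.{u} n m
  let Φ : PPover S n m ⟶ pullback (CohB1.ProjSpace.toSpec (n * m + n + m) (ULift.{u} ℤ)) (specULiftZIsTerminal.from S) :=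
    pullback.lift (pullback.fst _ _ ≫ r) (pullback.snd _ _) (specULiftZIsTerminal.hom_ext _ _)
  have h1 : Φ ≫ pullback.fst _ _ = pullback.fst _ _ ≫ r := pullback.lift_fst _ _ _
  have h2 : Φ ≫ pullback.snd _ _ = pullback.snd _ _ := pullback.lift_snd _ _ _
  refine ⟨r, Φ, ?_, h1, h2, e⟩
  have hsq : IsPullback Φ (pullback.fst _ _) (pullback.fst _ _) r := by
    refine IsPullback.of_right ?_ h1 (IsPullback.of_hasPullback _ _).flip
    rw [h2, hrs]
    exact (IsPullback.of_hasPullback _ _).flip
  exact MorphismProperty.of_isPullback hsq.flip hr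

end Groth.Agent.PnEmb

namespace Groth.Agent.PnEmb

variable {X S : Scheme.{u}}

theorem isRelVeryAmplePn_tensor (q : X ⟶ S) {L L' : X.Modules} (hva : RelAmple.IsRelVeryAmplePn q L)
    (hL' : PicF.IsInvertible L') {k : ℕ} (s : Fin k → Γ(L', ⊤)) (hs : ∀ x : X, ∃ j, x ∈ glocus L' (s j)) :
    RelAmple.IsRelVeryAmplePn q (CohB1.tensorMod L L') := by
  obtain ⟨n, i, hi, hiq, ⟨e⟩⟩ := hva
  haveI := hi
  obtain ⟨r', -, τ, -⟩ := UPLib.exists_hom_projSpace k (specULiftZIsTerminal.from X) hL' (Fin.cons 0 s)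
    (fun x => by obtain ⟨j, hj⟩ := hs x; exact ⟨j.succ, by simpa using hj⟩)
  obtain ⟨r, Φ, hΦ, hΦ1, hΦ2, ⟨eO⟩⟩ := exists_segre_over S n k
  have hΦi : IsImmersion Φ := inferInstance
  let a : X ⟶ PZ.{u} n := i ≫ pullback.fst _ _
  let j0 : X ⟶ PP.{u} n k := pullback.lift a r' (specULiftZIsTerminal.hom_ext _ _)
  let j : X ⟶ PPover S n k := pullback.lift j0 q (specULiftZIsTerminal.hom_ext _ _)
  let κ : PPover S n k ⟶ pullback (CohB1.ProjSpace.toSpec n (ULift.{u} ℤ)) (specULiftZIsTerminal.from S) :=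
    pullback.lift (pullback.fst _ _ ≫ pullback.fst _ _) (pullback.snd _ _) (specULiftZIsTerminal.hom_ext _ _)
  have hjκ : j ≫ κ = i := by
    refine pullback.hom_ext ?_ ?_
    · rw [Category.assoc, pullback.lift_fst, ← Category.assoc, pullback.lift_fst, pullback.lift_fst]; rfl
    · rw [Category.assoc, pullback.lift_snd, pullback.lift_snd]; exact hiq.symm
  haveI : IsImmersion (j ≫ κ) := by rw [hjκ]; exact hi
  haveI : IsImmersion j := IsImmersion.of_comp j κ
  refine ⟨_, j ≫ Φ, MorphismProperty.comp_mem _ _ _ ‹IsImmersion j› hΦi, ?_, ?_⟩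
  · exact (Category.assoc _ _ _).trans ((congrArg (j ≫ ·) hΦ2).trans (pullback.lift_snd _ _ _))
  · obtain ⟨eT⟩ := exists_pullTensorIso j0 (PicLoc.isInvertible_pullback (pullback.fst _ _) (isInvertible_O1 n))
      (PicLoc.isInvertible_pullback (pullback.snd _ _) (isInvertible_O1 k))
    have hj0 : j ≫ pullback.fst _ _ = j0 := pullback.lift_fst _ _ _
    have hc : (j ≫ Φ) ≫ pullback.fst _ _ = j0 ≫ r := by rw [Category.assoc, hΦ1, ← Category.assoc, hj0]
    let e1 : L ≅ (Scheme.Modules.pullback j0).obj ((Scheme.Modules.pullback (pullback.fst _ _)).obj (O1 n)) :=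
      e ≪≫ (Scheme.Modules.pullbackComp i (pullback.fst _ _)).app _ ≪≫
        (Scheme.Modules.pullbackCongr (pullback.lift_fst a r' (specULiftZIsTerminal.hom_ext _ _)).symm).app _ ≪≫
        ((Scheme.Modules.pullbackComp j0 (pullback.fst _ _)).app _).symm
    let e2 : L' ≅ (Scheme.Modules.pullback j0).obj ((Scheme.Modules.pullback (pullback.snd _ _)).obj (O1 k)) :=
      τ.symm ≪≫ (Scheme.Modules.pullbackCongr (pullback.lift_snd a r' (specULiftZIsTerminal.hom_ext _ _)).symm).app _ ≪≫
        ((Scheme.Modules.pullbackComp j0 (pullback.snd _ _)).app _).symm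
    exact ⟨tensorIso e1 e2 ≪≫ eT.symm ≪≫ (Scheme.Modules.pullback j0).mapIso eO.symm ≪≫
      (Scheme.Modules.pullbackComp j0 r).app _ ≪≫ (Scheme.Modules.pullbackCongr hc.symm).app _ ≪≫
      ((Scheme.Modules.pullbackComp (j ≫ Φ) (pullback.fst _ _)).app _).symm⟩

end Groth.Agent.PnEmb
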