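import Groth.Agent.UPLib.ProjSpace
import Groth.Agent.AmpleLib.Ample
import Groth.Prelude.Def_LCI2

/-!
# Immersions into projective space over an affine base from sections of an invertible module
-/

set_option autoImplicit false
set_option linter.unusedSectionVars false
set_option backward.isDefEq.respectTransparency.types false
set_option maxHeartbeats 1000000

universe u

open AlgebraicGeometry CategoryTheory CategoryTheory.Limits TopologicalSpace Opposite
open Groth.Agent.Coherent Groth.Agent.PicLib Groth.Agent.AmpleLib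

namespace Groth.Agent.PnEmb

section gen

variable {A σ₀ : Type u} [CommRing A] [SetLike σ₀ A] [AddSubgroupClass σ₀ A] {𝒜 : ℕ → σ₀} [GradedRing 𝒜]

/-- Quotients of pulled back sections of `O(1)` are pulled back functions. -/
theorem exists_app_smul_eq {f a : A} (hf : f ∈ 𝒜 1) (ha : a ∈ 𝒜 1) {X : Scheme.{u}} {L : X.Modules}
    (r : X ⟶ Proj 𝒜) (τ : (Scheme.Modules.pullback r).obj (GrTwist.twist 𝒜 ((1 : ℕ) : ℤ)) ≅ L) (W : X.Opens)
    (hW : W ≤ r ⁻¹ᵁ Proj.basicOpen 𝒜 f) :
    ∃ c : Γ(Proj 𝒜, Proj.basicOpen 𝒜 f), r.appLE (Proj.basicOpen 𝒜 f) W hW c •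
        resM L (le_top : W ≤ ⊤) (τ.hom.app ⊤ (PicLib.pullSec r (UPLib.sec f hf))) =
      resM L le_top (τ.hom.app ⊤ (PicLib.pullSec r (UPLib.sec a ha))) := by
  refine ⟨(Proj.awayToSection 𝒜 f).hom (HomogeneousLocalization.Away.mk 𝒜 hf 1 a (by simpa using ha)), ?_⟩
  have h' := congrArg (τ.hom.app W) (UPLib.appLE_smul_sec hf r W hW a (by simpa using ha))
  exact ((congrArg (_ • ·) (app_resM τ.hom _ _)).symm.trans ((Scheme.Modules.Hom.app_smul _ _ _).symm.trans h')).trans
    (app_resM τ.hom _ _)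

end gen

variable {X : Scheme.{u}} {n : ℕ} {R : Type u} [CommRing R] {L : X.Modules}
  (r : X ⟶ CohB1.ProjSpace n R) (τ : (Scheme.Modules.pullback r).obj (Twist.twistProjSpace n R 1) ≅ L)
  {σ : Fin (n + 1) → Γ(L, ⊤)}
  (hτ : ∀ i, τ.hom.app ⊤ (ProjUP.pullSec r (Twist.twistProjSpace n R 1) (ProjUP.coord n R i)) = σ i)

/-- The open `T_i ≠ 0`. -/
noncomputable def chartOpen (n : ℕ) (R : Type u) [CommRing R] (i : Fin (n + 1)) : (CohB1.ProjSpace n R).Opens :=
  Proj.basicOpen (CohB1.polyGrading n R) (MvPolynomial.X i)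

theorem isAffineOpen_chartOpen (i : Fin (n + 1)) : IsAffineOpen (chartOpen n R i) :=
  Proj.isAffineOpen_basicOpen (CohB1.polyGrading n R) (MvPolynomial.X i) (MvPolynomial.isHomogeneous_X R i) one_pos

include hτ in
theorem preimage_chartOpen (i : Fin (n + 1)) : r ⁻¹ᵁ chartOpen n R i = glocus L (σ i) := by
  rw [← hτ i, glocus_map_iso]
  exact (UPLib.preimage_basicOpen_eq
    (UPLib.adjoin_one_eq_top (UPLib.linForm_mem (R := R) n) (UPLib.isSymmetricAlgebra_linForm n)) r
    (MvPolynomial.isHomogeneous_X R i)).symm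

include hτ in
theorem exists_app_eq_coef (j k : Fin (n + 1)) (W : X.Opens) (hW : W ≤ r ⁻¹ᵁ chartOpen n R j) :
    ∃ c : Γ(CohB1.ProjSpace n R, chartOpen n R j),
      r.appLE (chartOpen n R j) W hW c • resM L (le_top : W ≤ ⊤) (σ j) = resM L le_top (σ k) := by
  rw [← hτ j, ← hτ k]
  exact exists_app_smul_eq (𝒜 := CohB1.polyGrading n R) (MvPolynomial.isHomogeneous_X R j)
    (MvPolynomial.isHomogeneous_X R k) r τ W hW

end Groth.Agent.PnEmb

namespace Groth.Agent.PnEmb

variable {X S : Scheme.{u}}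

theorem surjective_app_congr {Y : Scheme.{u}} (i : X ⟶ Y) {V V' : Y.Opens} (e : V' = V)
    (h : Function.Surjective (i.app V)) : Function.Surjective (i.app V') := by
  subst e; exact h

/-- A closed immersion on each of the affine opens covering the range gives an immersion. -/
theorem isImmersion_of_charts {Y : Scheme.{u}} (i : X ⟶ Y) {ι : Type*} (V : ι → Y.Opens)
    (hV : ∀ j, IsAffineOpen (V j)) (hX : ∀ j, IsAffineOpen (i ⁻¹ᵁ V j))
    (hsur : ∀ j, Function.Surjective (i.app (V j))) (hcov : ∀ x : X, ∃ j, i x ∈ V j) : IsImmersion i := by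
  haveI : MorphismProperty.RespectsRight @IsImmersion @IsOpenImmersion := ⟨fun e he f hf => by
    haveI : IsOpenImmersion e := he
    haveI : IsImmersion f := hf
    show IsImmersion (f ≫ e)
    infer_instance⟩
  refine IsZariskiLocalAtTarget.of_range_subset_iSup V ?_ fun j => ?_
  · rintro _ ⟨x, rfl⟩
    exact Opens.mem_iSup.2 (hcov x)
  · haveI : IsAffine (V j).toScheme := hV j
    haveI : IsAffine (i ⁻¹ᵁ V j).toScheme := hX j
    haveI : IsClosedImmersion (i ∣_ V j) := by
      refine IsClosedImmersion.of_surjective_of_isAffine _ ?_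
      rw [morphismRestrict_appTop]
      have hb := (ConcreteCategory.bijective_of_isIso
        (X.presheaf.map (eqToHom (image_morphismRestrict_preimage i (V j) ⊤)).op)).2
      exact hb.comp (surjective_app_congr i (Scheme.Opens.ι_image_top (V j)) (hsur j))
    infer_instance

theorem isClosedImmersion_of_charts {Y : Scheme.{u}} (i : X ⟶ Y) {ι : Type*} (V : ι → Y.Opens)
    (hV : ∀ j, IsAffineOpen (V j)) (hX : ∀ j, IsAffineOpen (i ⁻¹ᵁ V j))
    (hsur : ∀ j, Function.Surjective (i.app (V j))) (hcov : ⨆ j, V j = ⊤) : IsClosedImmersion i := by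
  refine (IsZariskiLocalAtTarget.iff_of_iSup_eq_top V hcov).2 fun j => ?_
  haveI : IsAffine (V j).toScheme := hV j
  haveI : IsAffine (i ⁻¹ᵁ V j).toScheme := hX j
  refine IsClosedImmersion.of_surjective_of_isAffine _ ?_
  rw [morphismRestrict_appTop]
  have hb := (ConcreteCategory.bijective_of_isIso
    (X.presheaf.map (eqToHom (image_morphismRestrict_preimage i (V j) ⊤)).op)).2
  exact hb.comp (surjective_app_congr i (Scheme.Opens.ι_image_top (V j)) (hsur j))

variable [IsAffine S]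

/-- Sections `σ` whose quotients generate the functions of affine non-vanishing loci over the base give very
ampleness. -/
theorem isRelVeryAmplePn_of_sections (q : X ⟶ S) {L : X.Modules} (hL : PicF.IsInvertible L) {n : ℕ}
    (σ : Fin (n + 1) → Γ(L, ⊤)) (J : Set (Fin (n + 1))) (hcov : ∀ x : X, ∃ j ∈ J, x ∈ glocus L (σ j))
    (haff : ∀ j ∈ J, IsAffineOpen (glocus L (σ j)))
    (hring : ∀ j ∈ J, Subring.closure (Set.range (q.appLE ⊤ (glocus L (σ j)) le_top) ∪
      Set.range fun k => (isGen_glocus (σ j)).coef le_rfl (resM L le_top (σ k))) = ⊤) :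
    RelAmple.IsRelVeryAmplePn q L := by
  obtain ⟨r, hr, τ, hτ⟩ := UPLib.exists_hom_projSpace n (specULiftZIsTerminal.from X) hL σ fun x => by
    obtain ⟨j, -, hj⟩ := hcov x
    exact ⟨j, hj⟩
  let i : X ⟶ pullback (CohB1.ProjSpace.toSpec n (ULift.{u} ℤ)) (specULiftZIsTerminal.from S) := pullback.lift r q (specULiftZIsTerminal.hom_ext _ _)
  have hir : i ≫ pullback.fst _ _ = r := pullback.lift_fst _ _ _
  have hiq : i ≫ pullback.snd _ _ = q := pullback.lift_snd _ _ _
  refine ⟨n, i, ?_, hiq, ⟨τ.symm ≪≫ (Scheme.Modules.pullbackCongr hir.symm).app _ ≪≫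
    ((Scheme.Modules.pullbackComp i (pullback.fst _ _)).app _).symm⟩⟩
  haveI : IsAffineHom (specULiftZIsTerminal.from S) := isAffineHom_of_isAffine _
  haveI : IsAffineHom (pullback.fst (CohB1.ProjSpace.toSpec n (ULift.{u} ℤ)) (specULiftZIsTerminal.from S)) :=
    MorphismProperty.pullback_fst _ _ inferInstance
  let V : Fin (n + 1) → (pullback (CohB1.ProjSpace.toSpec n (ULift.{u} ℤ)) (specULiftZIsTerminal.from S)).Opens := fun j =>
    pullback.fst (CohB1.ProjSpace.toSpec n (ULift.{u} ℤ)) (specULiftZIsTerminal.from S) ⁻¹ᵁ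
      chartOpen n (ULift.{u} ℤ) j
  have hpre : ∀ j, i ⁻¹ᵁ V j = glocus L (σ j) := fun j => by
    refine Eq.trans ?_ (preimage_chartOpen r τ hτ j)
    rw [← hir]
    rfl
  refine isImmersion_of_charts i (fun j : J => V j)
    (fun j => (isAffineOpen_chartOpen (j.1)).preimage (pullback.fst _ _)) (fun j => hpre j ▸ haff j j.2) ?_ ?_
  · rintro ⟨j, hj⟩
    have key : ∀ W : X.Opens, W = glocus L (σ j) → ∀ hW : W ≤ i ⁻¹ᵁ V j,
        (⊤ : Subring Γ(X, W)) ≤ (i.appLE (V j) W hW).hom.range := by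
      rintro W rfl hW
      rw [← hring j hj, Subring.closure_le]
      rintro c (⟨a, rfl⟩ | ⟨k, rfl⟩)
      · refine ⟨(pullback.snd (CohB1.ProjSpace.toSpec n (ULift.{u} ℤ)) (specULiftZIsTerminal.from S)).appLE ⊤ (V j) le_top a, ?_⟩
        show ((pullback.snd (CohB1.ProjSpace.toSpec n (ULift.{u} ℤ)) (specULiftZIsTerminal.from S)).appLE ⊤ (V j) le_top ≫ i.appLE (V j) _ hW) a = q.appLE ⊤ _ le_top a
        rw [Scheme.Hom.appLE_comp_appLE]
        simp only [hiq]
      · obtain ⟨c, hc⟩ := exists_app_eq_coef r τ hτ j k _ (preimage_chartOpen r τ hτ j).ge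
        refine ⟨(pullback.fst (CohB1.ProjSpace.toSpec n (ULift.{u} ℤ)) (specULiftZIsTerminal.from S)).app
          (chartOpen n _ j) c, ((isGen_glocus (σ j)).coef_eq le_rfl ?_).symm⟩
        rw [resM_self]
        refine Eq.trans ?_ hc
        congr 1
        have e : r.appLE (chartOpen n (ULift.{u} ℤ) j) (glocus L (σ j)) (preimage_chartOpen r τ hτ j).ge =
            (i ≫ pullback.fst _ _).appLE (chartOpen n (ULift.{u} ℤ) j) (glocus L (σ j))
              (by rw [hir]; exact (preimage_chartOpen r τ hτ j).ge) := by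
          congr 1
          exact hir.symm
        rw [e, Scheme.Hom.comp_appLE]
        rfl
    intro c
    obtain ⟨d, hd⟩ := key _ (hpre j) le_rfl (Subring.mem_top c)
    refine ⟨d, ?_⟩
    rw [← hd, Scheme.Hom.app_eq_appLE]
  · intro x
    obtain ⟨j, hj, hx⟩ := hcov x
    exact ⟨⟨j, hj⟩, (hpre j).ge hx⟩

end Groth.Agent.PnEmb
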