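import Groth.Agent.PnEmb.Criterion
import Groth.Agent.AmpleLib.Relative
import Groth.Agent.UPLib.SecKernel
import Mathlib.AlgebraicGeometry.Morphisms.Flat

/-!
# The Segre embedding over the integers
-/

set_option autoImplicit false
set_option linter.unusedSectionVars false
set_option backward.isDefEq.respectTransparency.types false
set_option maxHeartbeats 1000000

universe u

open AlgebraicGeometry CategoryTheory CategoryTheory.Limits TopologicalSpace Opposite
open HomogeneousLocalization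
open Groth.Agent.Coherent Groth.Agent.PicLib Groth.Agent.AmpleLib

namespace Groth.Agent.PnEmb

/-- A pushout of commutative rings is generated by the images of the two factors. -/
theorem closure_range_union_eq_top {A B C D : CommRingCat.{u}} {f : A ⟶ B} {g : A ⟶ C} {l : B ⟶ D} {r : C ⟶ D}
    (h : IsPushout f g l r) : Subring.closure (Set.range l ∪ Set.range r) = ⊤ := by
  let H := Subring.closure (Set.range l ∪ Set.range r)
  let l' : B ⟶ CommRingCat.of H :=
    CommRingCat.ofHom (l.hom.codRestrict H fun b => Subring.subset_closure (Or.inl ⟨b, rfl⟩))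
  let r' : C ⟶ CommRingCat.of H :=
    CommRingCat.ofHom (r.hom.codRestrict H fun c => Subring.subset_closure (Or.inr ⟨c, rfl⟩))
  have hw : f ≫ l' = g ≫ r' := by
    ext a
    exact congrArg (fun φ => φ.hom a) h.w
  have hd : h.desc l' r' hw ≫ CommRingCat.ofHom H.subtype = 𝟙 D := by
    refine h.hom_ext ?_ ?_
    · rw [← Category.assoc, h.inl_desc, Category.comp_id]; rfl
    · rw [← Category.assoc, h.inr_desc, Category.comp_id]; rfl
  refine eq_top_iff.2 fun x _ => ?_
  have hx := congrArg (fun φ => φ.hom x) hd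
  exact (congrArg (· ∈ H) (hx : ((h.desc l' r' hw).hom x).1 = x)).mp ((h.desc l' r' hw).hom x).2

variable (n : ℕ)

/-- A subring containing the coordinate quotients is everything. -/
theorem away_subring_eq_top (a : Fin (n + 1))
    (H : Subring (Away (CohB1.polyGrading n (ULift.{u} ℤ)) (MvPolynomial.X a)))
    (hH : ∀ k, Away.mk (CohB1.polyGrading n (ULift.{u} ℤ)) (MvPolynomial.isHomogeneous_X _ a) 1 (MvPolynomial.X k)
      (by rw [smul_eq_mul, mul_one]; exact MvPolynomial.isHomogeneous_X _ k) ∈ H) : H = ⊤ := by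
  classical
  let R := ULift.{u} ℤ
  let 𝒜 := CohB1.polyGrading n R
  have hf : (MvPolynomial.X a : MvPolynomial (Fin (n + 1)) R) ∈ 𝒜 1 := MvPolynomial.isHomogeneous_X _ a
  have hι := UPLib.linForm_mem (R := R) n
  have hsym := UPLib.isSymmetricAlgebra_linForm (R := R) n
  have hgen := UPLib.adjoin_one_eq_top hι hsym
  let φ : ∀ k : ℕ, 𝒜 (k • 1) →+ Away 𝒜 (MvPolynomial.X a : MvPolynomial (Fin (n + 1)) R) := fun k =>
    AddMonoidHom.mk' (fun w => Away.mk 𝒜 hf k w.1 w.2) fun v b => by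
      refine HomogeneousLocalization.val_injective _ ?_
      rw [HomogeneousLocalization.val_add, Away.val_mk, Away.val_mk, Away.val_mk, Localization.add_mk_self]
      rfl
  have hz : ∀ (z : R) (k : ℕ) (w : 𝒜 (k • 1)), z • w = z.down • w := fun z k w => by
    have : z = ((z.down : ℤ) : R) := ULift.ext _ _ (by simp [R])
    conv_lhs => rw [this]
    exact Int.cast_smul_eq_zsmul R _ _
  refine eq_top_iff.2 fun q _ => ?_
  obtain ⟨k, w, hw, rfl⟩ := Away.mk_surjective 𝒜 hf q
  suffices key : ∀ {k : ℕ} {w : MvPolynomial (Fin (n + 1)) R}, w ∈ 𝒜 k → ∀ hw, Away.mk 𝒜 hf k w hw ∈ H from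
    key (by simpa using hw) hw
  intro k w hw
  refine UPLib.deg_induction hgen (P := fun k w => ∀ hw, Away.mk 𝒜 hf k w hw ∈ H) ?_ ?_ ?_ ?_ hw
  · intro c hc hc'
    obtain ⟨z, rfl⟩ := UPLib.exists_eq_algebraMap hι hsym hc
    let w1 : 𝒜 (0 • 1) := ⟨1, MvPolynomial.isHomogeneous_one _ _⟩
    have e : Away.mk 𝒜 hf 0 (algebraMap R _ z) hc' = φ 0 (z • w1) :=
      HomogeneousLocalization.val_injective _ (by
        rw [Away.val_mk]
        show _ = (Away.mk 𝒜 hf 0 (z • w1).1 _).val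
        rw [Away.val_mk, Submodule.coe_smul, Algebra.algebraMap_eq_smul_one])
    rw [e, hz, map_zsmul]
    refine zsmul_mem ?_ _
    have e1 : φ 0 w1 = 1 := by
      refine HomogeneousLocalization.val_injective _ ?_
      simp [φ, w1, Away.val_mk, HomogeneousLocalization.val_one]
    rw [e1]
    exact one_mem H
  · intro k v b hv hb ih hvb
    have e : Away.mk 𝒜 hf (k + 1) (v * b) hvb =
        Away.mk 𝒜 hf k v (by rw [smul_eq_mul, mul_one]; exact hv) * Away.mk 𝒜 hf 1 b (by rw [smul_eq_mul, mul_one]; exact hb) := by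
      refine HomogeneousLocalization.val_injective _ ?_
      rw [HomogeneousLocalization.val_mul, Away.val_mk, Away.val_mk, Away.val_mk, Localization.mk_mul]
      exact Localization.mk_eq_mk_iff.2 (Localization.r_iff_exists.2 ⟨1, by
        simp only [Submonoid.coe_mul, Submonoid.coe_one]; ring⟩)
    rw [e]
    refine mul_mem (ih _) ?_
    obtain ⟨c, rfl⟩ := UPLib.exists_eq_ι hι hsym hb
    let x : Fin (n + 1) → 𝒜 (1 • 1) := fun i => ⟨MvPolynomial.X i, by
      rw [smul_eq_mul, mul_one]; exact MvPolynomial.isHomogeneous_X R i⟩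
    have hs : (⟨UPLib.linForm n c, by rw [smul_eq_mul, mul_one]; exact hb⟩ : 𝒜 (1 • 1)) = ∑ i, c i • x i := by
      refine Subtype.ext ?_
      rw [Submodule.coe_sum]
      simp only [UPLib.linForm, Module.Basis.constr_apply_fintype, Pi.basisFun_equivFun]
      rfl
    show φ 1 ⟨UPLib.linForm n c, by rw [smul_eq_mul, mul_one]; exact hb⟩ ∈ H
    rw [hs, map_sum]
    refine sum_mem fun i _ => ?_
    rw [hz, map_zsmul]
    exact zsmul_mem (hH i) _
  · intro k h0
    have e : Away.mk 𝒜 hf k (0 : MvPolynomial (Fin (n + 1)) R) h0 = 0 := by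
      refine HomogeneousLocalization.val_injective _ ?_
      rw [Away.val_mk, HomogeneousLocalization.val_zero, Localization.mk_zero]
    rw [e]; exact zero_mem H
  · intro k v b hv hb ihv ihb hvb
    have e : Away.mk 𝒜 hf k (v + b) hvb =
        Away.mk 𝒜 hf k v (by rw [smul_eq_mul, mul_one]; exact hv) + Away.mk 𝒜 hf k b (by rw [smul_eq_mul, mul_one]; exact hb) := by
      refine HomogeneousLocalization.val_injective _ ?_
      rw [HomogeneousLocalization.val_add, Away.val_mk, Away.val_mk, Away.val_mk, Localization.add_mk_self]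
    rw [e]; exact add_mem (ihv _) (ihb _)

section twistOne

variable {R A : Type u} [CommRing R] [CommRing A] [Algebra R A] {𝒮 : ℕ → Submodule R A} [GradedAlgebra 𝒮]

theorem isInvertible_twist_one (hgen : Algebra.adjoin (𝒮 0) (𝒮 1 : Set A) = ⊤) :
    PicF.IsInvertible (Twist.twist 𝒮 1) :=
  TwistLib.G.isInvertible_twist (𝒜 := 𝒮) (UPLib.exists_degOne hgen) ((1 : ℕ) : ℤ)

theorem glocus_pullSec_twist_one (hgen : Algebra.adjoin (𝒮 0) (𝒮 1 : Set A) = ⊤) {X : Scheme.{u}} (r : X ⟶ Proj 𝒮)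
    {f : A} (hf : f ∈ 𝒮 1) :
    glocus ((Scheme.Modules.pullback r).obj (Twist.twist 𝒮 1))
      (PicLib.pullSec r (show Γ(Twist.twist 𝒮 1, ⊤) from Twist.globalOf 𝒮 ⟨f, hf⟩)) = r ⁻¹ᵁ Proj.basicOpen 𝒮 f :=
  UPLib.preimage_basicOpen_eq (𝒜 := 𝒮) hgen r hf

theorem appLE_smul_twist_one {X : Scheme.{u}} (r : X ⟶ Proj 𝒮) {f a : A} (hf : f ∈ 𝒮 1) (ha : a ∈ 𝒮 1) (W : X.Opens)
    (hW : W ≤ r ⁻¹ᵁ Proj.basicOpen 𝒮 f) :
    r.appLE (Proj.basicOpen 𝒮 f) W hW ((Proj.awayToSection 𝒮 f).hom (Away.mk 𝒮 hf 1 a (by simpa using ha))) •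
      resM ((Scheme.Modules.pullback r).obj (Twist.twist 𝒮 1)) (le_top : W ≤ ⊤)
        (PicLib.pullSec r (show Γ(Twist.twist 𝒮 1, ⊤) from Twist.globalOf 𝒮 ⟨f, hf⟩)) =
      resM _ (le_top : W ≤ ⊤) (PicLib.pullSec r (show Γ(Twist.twist 𝒮 1, ⊤) from Twist.globalOf 𝒮 ⟨a, ha⟩)) :=
  UPLib.appLE_smul_sec (𝒜 := 𝒮) hf r W hW a (by simpa using ha)

end twistOne

/-- Projective space over the integers. -/
noncomputable abbrev PZ (n : ℕ) : Scheme.{u} := CohB1.ProjSpace n (ULift.{u} ℤ)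

/-- Its `O(1)`. -/
noncomputable abbrev O1 (n : ℕ) : (PZ.{u} n).Modules := Twist.twistProjSpace n (ULift.{u} ℤ) 1

/-- The coordinates. -/
noncomputable def co {n : ℕ} (k : Fin (n + 1)) : Γ(O1.{u} n, ⊤) := ProjUP.coord n (ULift.{u} ℤ) k

theorem isInvertible_O1 (n : ℕ) : PicF.IsInvertible (O1.{u} n) :=
  isInvertible_twist_one (𝒮 := CohB1.polyGrading n (ULift.{u} ℤ))
    (UPLib.adjoin_one_eq_top (UPLib.linForm_mem (R := ULift.{u} ℤ) n) (UPLib.isSymmetricAlgebra_linForm n))

theorem preimage_chart {X : Scheme.{u}} {n : ℕ} (r : X ⟶ PZ.{u} n) (k : Fin (n + 1)) :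
    glocus _ (PicLib.pullSec r (co k)) = r ⁻¹ᵁ chartOpen n (ULift.{u} ℤ) k :=
  glocus_pullSec_twist_one (𝒮 := CohB1.polyGrading n (ULift.{u} ℤ))
    (UPLib.adjoin_one_eq_top (UPLib.linForm_mem n) (UPLib.isSymmetricAlgebra_linForm n)) r
    (MvPolynomial.isHomogeneous_X _ k)

/-- The quotient of two coordinates. -/
noncomputable def quot {n : ℕ} (a k : Fin (n + 1)) : Γ(PZ.{u} n, chartOpen n (ULift.{u} ℤ) a) :=
  (Proj.awayToSection (CohB1.polyGrading n (ULift.{u} ℤ)) (MvPolynomial.X a)).hom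
    (Away.mk (CohB1.polyGrading n (ULift.{u} ℤ)) (MvPolynomial.isHomogeneous_X _ a) 1 (MvPolynomial.X k)
      (by rw [smul_eq_mul, mul_one]; exact MvPolynomial.isHomogeneous_X _ k))

theorem quot_smul {X : Scheme.{u}} {n : ℕ} (r : X ⟶ PZ.{u} n) (a k : Fin (n + 1)) (W : X.Opens)
    (hW : W ≤ r ⁻¹ᵁ chartOpen n (ULift.{u} ℤ) a) :
    r.appLE (chartOpen n (ULift.{u} ℤ) a) W hW (quot a k) • resM _ (le_top : W ≤ ⊤) (PicLib.pullSec r (co a)) =
      resM _ (le_top : W ≤ ⊤) (PicLib.pullSec r (co k)) :=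
  appLE_smul_twist_one (𝒮 := CohB1.polyGrading n (ULift.{u} ℤ)) r (MvPolynomial.isHomogeneous_X _ a)
    (MvPolynomial.isHomogeneous_X _ k) W hW

theorem subring_quot_eq_top (a : Fin (n + 1)) (H : Subring Γ(PZ.{u} n, chartOpen n (ULift.{u} ℤ) a))
    (hH : ∀ k, quot a k ∈ H) : H = ⊤ := by
  have hc := away_subring_eq_top n a
    (H.comap (Proj.awayToSection (CohB1.polyGrading n (ULift.{u} ℤ)) (MvPolynomial.X a)).hom) hH
  haveI : IsIso (Proj.awayToSection (CohB1.polyGrading n (ULift.{u} ℤ)) (MvPolynomial.X a)) :=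
    (Proj.basicOpenIsoAway (CohB1.polyGrading n (ULift.{u} ℤ)) (MvPolynomial.X a)
      (MvPolynomial.isHomogeneous_X _ a) one_pos).isIso_hom
  refine eq_top_iff.2 fun x _ => ?_
  obtain ⟨y, rfl⟩ := (ConcreteCategory.bijective_of_isIso
    (Proj.awayToSection (CohB1.polyGrading n (ULift.{u} ℤ)) (MvPolynomial.X a))).2 x
  exact Subring.mem_comap.1 (hc.ge (Subring.mem_top y))

section segre

variable (m : ℕ)

/-- The product of two projective spaces over the integers. -/
noncomputable abbrev PP : Scheme.{u} :=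
  pullback (CohB1.ProjSpace.toSpec n (ULift.{u} ℤ)) (CohB1.ProjSpace.toSpec m (ULift.{u} ℤ))

/-- `O(1,1)`. -/
noncomputable abbrev O11 : (PP.{u} n m).Modules :=
  CohB1.tensorMod ((Scheme.Modules.pullback (pullback.fst _ _)).obj (O1.{u} n))
    ((Scheme.Modules.pullback (pullback.snd _ _)).obj (O1.{u} m))

theorem isInvertible_O11 : PicF.IsInvertible (O11.{u} n m) :=
  isInvertible_tensorMod (PicLoc.isInvertible_pullback _ (isInvertible_O1 n))
    (PicLoc.isInvertible_pullback _ (isInvertible_O1 m))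

/-- Index pairs. -/
noncomputable def pairEquiv : Fin (n + 1) × Fin (m + 1) ≃ Fin (n * m + n + m + 1) :=
  finProdFinEquiv.trans (finCongr (by ring))

/-- The product coordinates. -/
noncomputable def co11 (p : Fin (n + 1) × Fin (m + 1)) : Γ(O11.{u} n m, ⊤) :=
  tmul (PicLib.pullSec (pullback.fst _ _) (co p.1)) (PicLib.pullSec (pullback.snd _ _) (co p.2))

/-- The product chart. -/
noncomputable def chart11 (p : Fin (n + 1) × Fin (m + 1)) : (PP.{u} n m).Opens :=
  pullback.fst (CohB1.ProjSpace.toSpec n (ULift.{u} ℤ)) (CohB1.ProjSpace.toSpec m (ULift.{u} ℤ)) ⁻¹ᵁ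
      chartOpen n (ULift.{u} ℤ) p.1 ⊓
    pullback.snd (CohB1.ProjSpace.toSpec n (ULift.{u} ℤ)) (CohB1.ProjSpace.toSpec m (ULift.{u} ℤ)) ⁻¹ᵁ
      chartOpen m (ULift.{u} ℤ) p.2

theorem glocus_co11 (p : Fin (n + 1) × Fin (m + 1)) : glocus _ (co11.{u} n m p) = chart11 n m p := by
  refine (glocus_tmul (PicLoc.isInvertible_pullback _ (isInvertible_O1 n))
    (PicLoc.isInvertible_pullback _ (isInvertible_O1 m)) _ _).trans ?_
  exact congrArg₂ (· ⊓ ·) (preimage_chart (pullback.fst _ _) p.1) (preimage_chart (pullback.snd _ _) p.2)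

theorem exists_co11 (x : PP.{u} n m) : ∃ p, x ∈ chart11 n m p := by
  obtain ⟨a, ha⟩ := UPLib.exists_degOne_projSpace (R := CommRingCat.of (ULift.{u} ℤ)) n ((pullback.fst (CohB1.ProjSpace.toSpec n (ULift.{u} ℤ)) (CohB1.ProjSpace.toSpec m (ULift.{u} ℤ))) x)
  obtain ⟨b, hb⟩ := UPLib.exists_degOne_projSpace (R := CommRingCat.of (ULift.{u} ℤ)) m ((pullback.snd (CohB1.ProjSpace.toSpec n (ULift.{u} ℤ)) (CohB1.ProjSpace.toSpec m (ULift.{u} ℤ))) x)
  exact ⟨(a, b), ha, hb⟩

theorem isAffineOpen_chart11 (p : Fin (n + 1) × Fin (m + 1)) : IsAffineOpen (chart11.{u} n m p) := by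
  have h1 := isAffineOpen_chartOpen (R := ULift.{u} ℤ) p.1
  have h2 := isAffineOpen_chartOpen (R := ULift.{u} ℤ) p.2
  haveI : IsAffine _ := h1
  haveI : IsAffine _ := h2
  haveI : IsAffine ((⊤ : (Spec (CommRingCat.of (ULift.{u} ℤ))).Opens).toScheme) := isAffineOpen_top _
  exact .of_isIso (Scheme.Hom.isPullback_resLE (IsPullback.of_hasPullback _ _) (US := ⊤) le_top le_top
    (UX := chartOpen n (ULift.{u} ℤ) p.1) (UT := chartOpen m (ULift.{u} ℤ) p.2) (show chart11 n m p = _ from rfl)).isoPullback.hom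

/-- The Segre morphism over the integers, with its module and coordinates. -/
theorem exists_segre : ∃ (r : PP.{u} n m ⟶ PZ.{u} (n * m + n + m)) (_ : IsClosedImmersion r),
    r ≫ CohB1.ProjSpace.toSpec _ _ = pullback.fst _ _ ≫ CohB1.ProjSpace.toSpec n _ ∧
    Nonempty ((Scheme.Modules.pullback r).obj (O1 (n * m + n + m)) ≅ O11 n m) := by
  let e := pairEquiv n m
  obtain ⟨r, hr, τ, hτ⟩ := UPLib.exists_hom_projSpace (n * m + n + m)
    (pullback.fst _ _ ≫ CohB1.ProjSpace.toSpec n (ULift.{u} ℤ)) (isInvertible_O11 n m)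
    (fun i => co11 n m (e.symm i)) fun x => by
      obtain ⟨p, hp⟩ := exists_co11 n m x
      exact ⟨e p, by rw [Equiv.symm_apply_apply, glocus_co11]; exact hp⟩
  refine ⟨r, ?_, hr, ⟨τ⟩⟩
  have hpre : ∀ i, r ⁻¹ᵁ chartOpen _ (ULift.{u} ℤ) i = chart11 n m (e.symm i) := fun i =>
    (preimage_chartOpen r τ hτ i).trans (glocus_co11 n m _)
  refine isClosedImmersion_of_charts r (fun i => chartOpen (n * m + n + m) (ULift.{u} ℤ) i)
    (fun i => isAffineOpen_chartOpen i) (fun i => hpre i ▸ isAffineOpen_chart11 n m _) (fun i => ?_)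
    (top_le_iff.1 fun y _ => by
      obtain ⟨i, hi⟩ := UPLib.exists_degOne_projSpace (R := CommRingCat.of (ULift.{u} ℤ)) (n * m + n + m) y
      exact Opens.mem_iSup.2 ⟨i, hi⟩)
  obtain ⟨p, rfl⟩ := e.surjective i
  have key : ∀ W : (PP.{u} n m).Opens, W = chart11 n m p → ∀ hW : W ≤ r ⁻¹ᵁ chartOpen _ (ULift.{u} ℤ) (e p),
      (⊤ : Subring Γ(PP.{u} n m, W)) ≤ (r.appLE (chartOpen _ (ULift.{u} ℤ) (e p)) W hW).hom.range := by
    rintro W rfl hW
    have hgenp : IsGen (O11 n m) (chart11 n m p) (resM _ le_top (co11 n m p)) := by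
      rw [← le_glocus_iff, glocus_co11]
    have hr' : ∀ q, r.appLE (chartOpen _ (ULift.{u} ℤ) (e p)) _ hW (quot (e p) (e q)) •
        resM _ (le_top : chart11 n m p ≤ ⊤) (co11 n m p) = resM _ le_top (co11 n m q) := by
      intro q
      have h := congrArg (τ.hom.app (chart11 n m p)) (quot_smul r (e p) (e q) _ hW)
      have hp := hτ (e p)
      have hq := hτ (e q)
      rw [Equiv.symm_apply_apply] at hp hq
      rw [← hp, ← hq]
      exact ((congrArg (_ • ·) (app_resM τ.hom _ _)).symm.trans ((Scheme.Modules.Hom.app_smul _ _ _).symm.trans h)).trans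
        (app_resM τ.hom _ _)
    have hcl := closure_range_union_eq_top
      ((isIso_pushoutSection_iff _ _ _ (show chart11 n m p = _ from rfl)).1
        (isIso_pushoutSection_of_isAffineOpen (IsPullback.of_hasPullback
          (CohB1.ProjSpace.toSpec n (ULift.{u} ℤ)) (CohB1.ProjSpace.toSpec m (ULift.{u} ℤ))) (US := ⊤) le_top le_top
          rfl (isAffineOpen_top _) (isAffineOpen_chartOpen p.2) (isAffineOpen_chartOpen p.1)))
    refine le_trans hcl.ge (Subring.closure_le.2 ?_)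
    rintro c (⟨d, rfl⟩ | ⟨d, rfl⟩)
    · refine (subring_quot_eq_top n p.1 (Subring.comap
        ((pullback.fst (CohB1.ProjSpace.toSpec n (ULift.{u} ℤ)) (CohB1.ProjSpace.toSpec m (ULift.{u} ℤ))).appLE
          (chartOpen n (ULift.{u} ℤ) p.1) (chart11 n m p) inf_le_left).hom
        (r.appLE (chartOpen _ (ULift.{u} ℤ) (e p)) (chart11 n m p) hW).hom.range) fun k => ?_).ge (Subring.mem_top d)
      refine ⟨quot (e p) (e (k, p.2)), (hgenp _ le_rfl).1 ?_⟩
      simp only [resM_self]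
      rw [hr']
      simp only [co11, resM_tmul, ← tmul_smul_left]
      rw [quot_smul]
    · refine (subring_quot_eq_top m p.2 (Subring.comap
        ((pullback.snd (CohB1.ProjSpace.toSpec n (ULift.{u} ℤ)) (CohB1.ProjSpace.toSpec m (ULift.{u} ℤ))).appLE
          (chartOpen m (ULift.{u} ℤ) p.2) (chart11 n m p) inf_le_right).hom
        (r.appLE (chartOpen _ (ULift.{u} ℤ) (e p)) (chart11 n m p) hW).hom.range) fun k => ?_).ge (Subring.mem_top d)
      refine ⟨quot (e p) (e (p.1, k)), (hgenp _ le_rfl).1 ?_⟩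
      simp only [resM_self]
      rw [hr']
      simp only [co11, resM_tmul, ← tmul_smul_right]
      rw [quot_smul]
  intro c
  obtain ⟨d, hd⟩ := key _ ((hpre _).trans (congrArg _ (e.symm_apply_apply p))) le_rfl (Subring.mem_top c)
  refine ⟨d, ?_⟩
  rw [← hd, Scheme.Hom.app_eq_appLE]

end segre

end Groth.Agent.PnEmb
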