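import Groth.Agent.PnEmb.Criterion
import Groth.Agent.AmpleLib.Twist2
import Groth.Agent.AmpleLib.Generated
import Groth.Agent.ProjLib.ProjSpace

/-!
# Ample modules over an affine base give immersions into projective space
-/

set_option autoImplicit false
set_option linter.unusedSectionVars false
set_option backward.isDefEq.respectTransparency.types false
set_option maxHeartbeats 800000

universe u

open AlgebraicGeometry CategoryTheory CategoryTheory.Limits TopologicalSpace Opposite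
open Groth.Agent.Coherent Groth.Agent.PicLib Groth.Agent.AmpleLib

namespace Groth.Agent.PnEmb

variable {X S : Scheme.{u}} {L M : X.Modules}

/-- Functions on an affine open, finitely generated over an affine base. -/
theorem exists_ring_gens [IsAffine S] (q : X ⟶ S) [LocallyOfFiniteType q] {W : X.Opens} (hW : IsAffineOpen W) :
    ∃ (ν : ℕ) (f : Fin ν → Γ(X, W)),
      Subring.closure (Set.range (q.appLE ⊤ W le_top) ∪ Set.range f) = ⊤ := by
  have h := q.finiteType_appLE (isAffineOpen_top S) hW le_top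
  letI := (q.appLE ⊤ W le_top).hom.toAlgebra
  obtain ⟨s, hs⟩ := (h : Algebra.FiniteType Γ(S, ⊤) Γ(X, W)).out
  let e := Fintype.equivFin {x // x ∈ s}
  refine ⟨_, fun i => (e.symm i).1, ?_⟩
  have hr : Set.range (fun i => (e.symm i).1) = (s : Set Γ(X, W)) := by
    ext x
    exact ⟨by rintro ⟨i, rfl⟩; exact (e.symm i).2, fun hx => ⟨e ⟨x, hx⟩, by simp⟩⟩
  rw [hr]
  have h2 := Algebra.adjoin_eq_ring_closure (R := Γ(S, ⊤)) (s : Set Γ(X, W))
  rw [hs] at h2
  exact h2.symm.trans (Algebra.top_toSubring (R := Γ(S, ⊤)) (A := Γ(X, W)))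

theorem exists_lift_pow (hL : PicF.IsInvertible L) (hM : PicF.IsInvertible M) (b : Γ(L, ⊤))
    (p : Γ(M, glocus L b)) {k₀ k : ℕ} (hk : k₀ ≤ k) (t : Γ(CohB1.tensorMod M (CohB1.tensorPow L k₀), ⊤))
    (ht : resM _ (le_top : glocus L b ≤ ⊤) t = tmul p (powSec (resM L le_top b) k₀)) :
    ∃ t' : Γ(CohB1.tensorMod M (CohB1.tensorPow L k), ⊤),
      resM _ (le_top : glocus L b ≤ ⊤) t' = tmul p (powSec (resM L le_top b) k) := by
  obtain ⟨d, rfl⟩ := Nat.exists_eq_add_of_le hk
  obtain ⟨α, hα⟩ := exists_assocIso hM (isInvertible_tensorPow hL k₀) (isInvertible_tensorPow hL d)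
  obtain ⟨e, he⟩ := exists_powIso hL k₀ d
  refine ⟨(tensorIso (Iso.refl M) e).hom.app ⊤ (α.hom.app ⊤ (tmul t (powSec b d))), ?_⟩
  rw [← app_resM, ← app_resM, resM_tmul, ht, resM_powSec, hα]
  exact (tensorMap_tmul _ _ _ _).trans (congrArg _ (he _ _))

theorem nonempty_twist_iso (hL : PicF.IsInvertible L) (hM : PicF.IsInvertible M) (j m k n : ℕ) (hn : j + m * k = n) :
    Nonempty (CohB1.tensorMod (CohB1.tensorMod (CohB1.tensorPow L j) M) (CohB1.tensorPow (CohB1.tensorPow L m) k) ≅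
      CohB1.tensorMod (CohB1.tensorPow L n) M) := by
  subst hn
  obtain ⟨α, -⟩ := exists_assocIso hM (isInvertible_tensorPow hL j) (isInvertible_tensorPow (isInvertible_tensorPow hL m) k)
  obtain ⟨e₁, -⟩ := exists_powPowIso hL m k
  obtain ⟨e₂, -⟩ := exists_powIso hL j (m * k)
  exact ⟨tensorIso (tensorComm _ _) (Iso.refl _) ≪≫ α ≪≫ tensorIso (Iso.refl M) (tensorIso (Iso.refl _) e₁ ≪≫ e₂) ≪≫ tensorComm _ _⟩


/-- A module with a global generator is trivial. -/
theorem nonempty_iso_of_isGen_top {N : X.Modules} {s : Γ(N, ⊤)} (hs : IsGen N ⊤ s) :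
    Nonempty (N ≅ Coh.structureModule X) := by
  obtain ⟨e, -⟩ := exists_iso_of_gens (fun _ : PUnit.{u + 1} => (⊤ : X.Opens)) ciSup_const (fun _ => s) (fun _ => hs)
    (fun _ => oneSec (⊤ : X.Opens)) (fun _ => isGen_oneSec ⊤) (by
      intro _ _ V hi hj c hc
      have := (hs V le_top).1 (a₁ := 1) (a₂ := c) (by simpa only [one_smul] using hc)
      rw [← this, one_smul])
  exact ⟨e⟩

theorem nonempty_unit_tensorIso {N : X.Modules} (hN : PicF.IsInvertible N) :
    Nonempty (CohB1.tensorMod (Coh.structureModule X) N ≅ N) := by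
  choose U hU g hg using exists_isGen hN
  obtain ⟨e, -⟩ := exists_iso_of_gens U (top_le_iff.1 fun x _ => Opens.mem_iSup.2 ⟨x, hU x⟩)
    (fun x => tmul (oneSec (U x)) (g x)) (fun x => isGen_tmul (isGen_oneSec _) (hg x)) g hg (by
      intro x y V hi hj c hc
      rw [resM_tmul, resM_tmul, resM_oneSec, resM_oneSec] at hc
      obtain ⟨d, hd⟩ := ((hg y) V hj).2 (resM _ hi (g x))
      have hd' : d • resM N hj (g y) = resM N hi (g x) := hd
      have h' : tmul (oneSec V) (resM N hi (g x)) = d • tmul (oneSec V) (resM N hj (g y)) := by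
        rw [← hd', tmul_smul_right]
      have hy := isGen_tmul (isGen_oneSec V) ((hg y).restrict hj)
      have := (hy V le_rfl).1 (a₁ := c) (a₂ := d) (by simpa only [resM_self] using hc.symm.trans h')
      rw [this, hd'])
  exact ⟨e⟩

theorem isRelVeryAmplePn_of_iso {q : X ⟶ S} {N N' : X.Modules} (e : N ≅ N') (h : RelAmple.IsRelVeryAmplePn q N) :
    RelAmple.IsRelVeryAmplePn q N' := by
  obtain ⟨n, i, hi, hiq, ⟨f⟩⟩ := h
  exact ⟨n, i, hi, hiq, ⟨e.symm ≪≫ f⟩⟩

variable [IsAffine S]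

/-- High twists by an ample module are very ample. -/
theorem eventually_isRelVeryAmplePn (q : X ⟶ S) [LocallyOfFiniteType q] (hL : CohB1.IsAmple L)
    (hM : PicF.IsInvertible M) :
    ∃ n₀ : ℕ, ∀ n : ℕ, n₀ ≤ n → RelAmple.IsRelVeryAmplePn q (CohB1.tensorMod (CohB1.tensorPow L n) M) := by
  classical
  obtain ⟨hLi, hc, haff⟩ := isAmple_iff_affGlocus.1 hL
  have := quasiSeparatedSpace_of_affGlocus hLi haff
  have := hc
  have key : ∀ x : X, ∃ (W : X.Opens) (ν : ℕ) (f : Fin ν → Γ(X, W)) (N : ℕ), x ∈ W ∧ IsAffineOpen W ∧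
      Subring.closure (Set.range (q.appLE ⊤ W le_top) ∪ Set.range f) = ⊤ ∧
      ∀ n, N ≤ n → ∃ (v : Γ(CohB1.tensorMod (CohB1.tensorPow L n) M, ⊤))
        (u : Fin ν → Γ(CohB1.tensorMod (CohB1.tensorPow L n) M, ⊤)),
        glocus _ v = W ∧ ∀ i, resM _ (le_top : W ≤ ⊤) (u i) = f i • resM _ (le_top : W ≤ ⊤) v := by
    intro x
    obtain ⟨V₁, hxV₁, g, hg⟩ := exists_isGen hLi x
    obtain ⟨V₂, hxV₂, g', hg'⟩ := exists_isGen hM x
    obtain ⟨m, hm, b, hxb, hbV, hb⟩ := affGlocus_of_mem (x := x) (U := V₁ ⊓ V₂) hL ⟨hxV₁, hxV₂⟩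
    let A := glocus _ b
    obtain ⟨ν, f, hf⟩ := exists_ring_gens q hb
    have hP : ∀ j, PicF.IsInvertible (CohB1.tensorMod (CohB1.tensorPow L j) M) := fun j =>
      isInvertible_tensorMod (isInvertible_tensorPow hLi j) hM
    have hLm := isInvertible_tensorPow hLi m
    let w : ∀ j, Γ(CohB1.tensorMod (CohB1.tensorPow L j) M, A) := fun j =>
      tmul (powSec (resM L (hbV.trans inf_le_left) g) j) (resM M (hbV.trans inf_le_right) g')
    have hw : ∀ j, IsGen _ A (w j) := fun j => isGen_tmul (isGen_powSec (hg.restrict _) j) (hg'.restrict _)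
    let a : Option (Fin ν) → Γ(X, A) := fun o => o.elim 1 f
    have hext : ∀ (j : Fin m) (o : Option (Fin ν)), ∃ (k : ℕ)
        (t : Γ(CohB1.tensorMod (CohB1.tensorMod (CohB1.tensorPow L j) M) (CohB1.tensorPow (CohB1.tensorPow L m) k), ⊤)),
        resM _ (le_top : A ≤ ⊤) t = tmul (a o • w j) (powSec (resM (CohB1.tensorPow L m) le_top b) k) := fun j o => by
      have := isQCoh_of_isInvertible (hP j)
      exact exists_extend (CohB1.tensorMod (CohB1.tensorPow L j) M) b hLm (a o • w j)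
    choose k₀ t₀ ht₀ using hext
    let K := Finset.univ.sup fun p : Fin m × Option (Fin ν) => k₀ p.1 p.2
    refine ⟨A, ν, f, m * (K + 2), hxb, hb, hf, fun n hn => ?_⟩
    let j : Fin m := ⟨n % m, Nat.mod_lt _ hm⟩
    obtain ⟨k, hk⟩ : ∃ k, n / m = k + 1 := Nat.exists_eq_add_one.2 ((Nat.le_div_iff_mul_le hm).2 (by nlinarith))
    have hKk : K ≤ k := by
      have : K + 2 ≤ n / m := (Nat.le_div_iff_mul_le hm).2 (by rw [mul_comm]; exact hn)
      omega
    have hlift : ∀ (k' : ℕ), K ≤ k' → ∀ o, ∃ t, resM _ (le_top : A ≤ ⊤) t =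
        tmul (a o • w j) (powSec (resM (CohB1.tensorPow L m) le_top b) k') := fun k' hk' o =>
      exists_lift_pow hLm (hP j) b _ ((Finset.le_sup (f := fun p : Fin m × Option (Fin ν) => k₀ p.1 p.2)
        (Finset.mem_univ (j, o))).trans hk') (t₀ j o) (ht₀ j o)
    obtain ⟨φ⟩ := nonempty_twist_iso hLi hM (n % m) m (k + 1) n (by rw [← hk]; exact Nat.mod_add_div n m)
    obtain ⟨α, hα⟩ := exists_assocIso (hP j) (isInvertible_tensorPow hLm k) hLm
    obtain ⟨t', ht'⟩ := hlift k hKk none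
    choose t ht using fun i => hlift (k + 1) (by omega) (some i)
    let h := φ.hom.app A (tmul (w j) (powSec (resM (CohB1.tensorPow L m) le_top b) (k + 1)))
    have h1 : resM _ (le_top : A ≤ ⊤) (α.hom.app ⊤ (tmul t' b)) =
        tmul (w j) (powSec (resM (CohB1.tensorPow L m) le_top b) (k + 1)) := by
      rw [← app_resM, resM_tmul, ht']
      simp only [a, Option.elim, one_smul]
      exact hα _ _ _ _
    have hv : resM _ (le_top : A ≤ ⊤) (φ.hom.app ⊤ (α.hom.app ⊤ (tmul t' b))) = h :=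
      (app_resM φ.hom _ _).symm.trans (congrArg (φ.hom.app A) h1)
    refine ⟨φ.hom.app ⊤ (α.hom.app ⊤ (tmul t' b)), fun i => φ.hom.app ⊤ (t i), ?_, fun i => ?_⟩
    · refine (glocus_map_iso φ _).trans ((glocus_map_iso α _).trans ?_)
      rw [glocus_tmul (isInvertible_tensorMod (hP j) (isInvertible_tensorPow hLm k)) hLm, inf_eq_right,
        le_glocus_iff, ht']
      simp only [a, Option.elim, one_smul]
      exact isGen_tmul (hw j) (isGen_powSec (isGen_glocus b) k)
    · rw [hv, ← app_resM, ht i]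
      simp only [a, Option.elim]
      rw [tmul_smul_left]
      exact Scheme.Modules.Hom.app_smul _ _ _
  choose W ν f N hxW hW hgen hN using key
  obtain ⟨T, hT⟩ := isCompact_univ.elim_finite_subcover (fun x : X => (W x : Set X)) (fun x => (W x).2)
    fun x _ => Set.mem_iUnion.2 ⟨x, hxW x⟩
  refine ⟨T.sup N, fun n hn => ?_⟩
  choose v u hv hu using fun x : {x // x ∈ T} => hN x.1 n ((Finset.le_sup x.2).trans hn)
  let I := Option ((x : {x // x ∈ T}) × Option (Fin (ν x.1)))
  obtain ⟨N', hN'⟩ : ∃ N', Fintype.card I = N' + 1 := Nat.exists_eq_add_one.2 Fintype.card_pos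
  let e : I ≃ Fin (N' + 1) := (Fintype.equivFin I).trans (finCongr hN')
  let sec : I → Γ(CohB1.tensorMod (CohB1.tensorPow L n) M, ⊤) := fun o => o.elim 0 fun p => p.2.elim (v p.1) (u p.1)
  refine isRelVeryAmplePn_of_sections q (isInvertible_tensorMod (isInvertible_tensorPow hLi n) hM)
    (fun i => sec (e.symm i)) (Set.range fun x : {x // x ∈ T} => e (some ⟨x, none⟩)) (fun y => ?_) ?_ ?_
  · obtain ⟨x, hxT, hyx⟩ := Set.mem_iUnion₂.1 (hT (Set.mem_univ y))
    exact ⟨_, ⟨⟨x, hxT⟩, rfl⟩, by simpa [sec, hv] using hyx⟩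
  · rintro _ ⟨x, rfl⟩
    simpa [sec, hv] using hW x.1
  · rintro _ ⟨x, rfl⟩
    have hs : sec (e.symm (e (some ⟨x, none⟩))) = v x := by simp [sec]
    have key : ∀ (z : Γ(CohB1.tensorMod (CohB1.tensorPow L n) M, ⊤)) (U : X.Opens), z = v x → U = W x.1 →
        ∀ hz : IsGen _ U (resM _ le_top z), Subring.closure (Set.range (q.appLE ⊤ U le_top) ∪
          Set.range fun i => hz.coef le_rfl (resM _ le_top (sec (e.symm i)))) = ⊤ := by
      rintro z U rfl rfl hz
      rw [eq_top_iff, ← hgen x.1]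
      refine Subring.closure_mono (Set.union_subset_union_right _ ?_)
      rintro _ ⟨i, rfl⟩
      refine ⟨e (some ⟨x, some i⟩), hz.coef_eq _ ?_⟩
      rw [resM_self]
      simpa [sec] using (hu x i).symm
    exact key _ _ hs ((congrArg (glocus _) hs).trans (hv x)) _

/-- Very ample modules over an affine base are ample. -/
theorem isAmple_of_isRelVeryAmplePn (q : X ⟶ S) [QuasiCompact q] (h : RelAmple.IsRelVeryAmplePn q L) :
    CohB1.IsAmple L := by
  obtain ⟨n, i, hi, hiq, ⟨e⟩⟩ := h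
  haveI := hi
  haveI : IsAffineHom (specULiftZIsTerminal.from S) := isAffineHom_of_isAffine _
  haveI : IsAffineHom (pullback.fst (CohB1.ProjSpace.toSpec n (ULift.{u} ℤ)) (specULiftZIsTerminal.from S)) :=
    MorphismProperty.pullback_fst _ _ inferInstance
  haveI : CompactSpace X := QuasiCompact.compactSpace_of_compactSpace q
  have hP : CohB1.IsAmple (Twist.twistProjSpace n (ULift.{u} ℤ) 1) :=
    TwistLib.G.isAmple_twist_one (𝒜 := CohB1.polyGrading n (ULift.{u} ℤ))
      (Finset.univ.image MvPolynomial.X) (by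
        intro g hg
        obtain ⟨j, -, rfl⟩ := Finset.mem_image.1 hg
        exact MvPolynomial.isHomogeneous_X _ j)
      (by
        rw [Finset.coe_image, Finset.coe_univ, Set.image_univ]
        refine le_antisymm (ProjLib.irrelevant_le_span_X n _) (Ideal.span_le.2 ?_)
        rintro _ ⟨j, rfl⟩
        exact HomogeneousIdeal.mem_irrelevant_of_mem (CohB1.polyGrading n _) Nat.one_pos
          (MvPolynomial.isHomogeneous_X _ j))
  have hO : CohB1.IsAmple (Twist.twistOver n S 1) :=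
    isAmple_pullback_of_isAffineHom (pullback.fst _ (specULiftZIsTerminal.from S)) hP
  refine isAmple_of_iso e.symm ?_
  have hL := hO.1
  refine isAmple_iff_affGlocus.2 ⟨PicLoc.isInvertible_pullback i hL, inferInstance, fun z => ?_⟩
  obtain ⟨m, hm, b, hx, hU, ha⟩ := affGlocus_of_mem (x := i z) (U := i.coborderRange) hO
    (subset_coborder ⟨z, rfl⟩)
  obtain ⟨φ, -⟩ := exists_pullPowIso i hL m
  refine ⟨m, hm, φ.hom.app ⊤ (PicLib.pullSec i b), ?_, le_top, ?_⟩
  · rw [glocus_map_iso, glocus_pullSec i (isInvertible_tensorPow hL m)]; exact hx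
  · rw [glocus_map_iso, glocus_pullSec i (isInvertible_tensorPow hL m)]
    have h2 : i ⁻¹ᵁ glocus _ b = i.liftCoborder ⁻¹ᵁ (i.coborderRange.ι ⁻¹ᵁ glocus _ b) := by
      conv_lhs => rw [← i.liftCoborder_ι]
      rfl
    rw [h2]
    exact (ha.preimage_of_isOpenImmersion i.coborderRange.ι (by rw [Scheme.Opens.opensRange_ι]; exact hU)).preimage
      i.liftCoborder

end Groth.Agent.PnEmb
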